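import Mathlib
import Cfsg.Agent.Lib.Lead.SylSq2

/-!
# S2490, piece A: coprime action gives edges of the prime graph; the connectedness certificate

`exists_orderOf_of_coprime_action` (L1): `N` normal in `G`, `s ∤ |N|`, `r ∣ |N|`; if the order of a
Sylow `s`-subgroup of `G` does not divide `|R| - 1` for the Sylow `r`-subgroups `R` of `N`, then `G`
has an element of order `s * r`.  (Frattini: a Sylow `s`-subgroup of `G` normalizes some `R`, and
cannot act freely on `R ∖ {1}`.)
-/

set_option autoImplicit false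
set_option linter.style.haveILetI false

namespace Cfsg.Agent.Lib.S2490

/-- two commuting nonidentity elements of prime power orders `s^i`, `r^j` give an element of
order `s * r` -/
theorem exists_orderOf_mul_of_commute {G : Type*} [Group G] (s r : ℕ) [hs : Fact s.Prime]
    [hr : Fact r.Prime] (hsr : s ≠ r) (q y : G) (hq1 : q ≠ 1) (hy1 : y ≠ 1) (m n : ℕ)
    (hq : orderOf q ∣ s ^ m) (hy : orderOf y ∣ r ^ n) (hcomm : q * y = y * q) :
    ∃ g : G, orderOf g = s * r := by
  have hsq : s ∣ orderOf q := by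
    obtain ⟨i, -, hi⟩ := (Nat.dvd_prime_pow hs.out).1 hq
    rcases Nat.eq_zero_or_pos i with h0 | hpos
    · rw [h0, pow_zero] at hi
      exact absurd (orderOf_eq_one_iff.1 hi) hq1
    · rw [hi]; exact dvd_pow_self s hpos.ne'
  have hry : r ∣ orderOf y := by
    obtain ⟨i, -, hi⟩ := (Nat.dvd_prime_pow hr.out).1 hy
    rcases Nat.eq_zero_or_pos i with h0 | hpos
    · rw [h0, pow_zero] at hi
      exact absurd (orderOf_eq_one_iff.1 hi) hy1
    · rw [hi]; exact dvd_pow_self r hpos.ne'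
  have hq0 : orderOf q ≠ 0 := by
    intro h0; rw [h0] at hq
    exact (pow_pos hs.out.pos m).ne' (Nat.eq_zero_of_zero_dvd hq)
  have hy0 : orderOf y ≠ 0 := by
    intro h0; rw [h0] at hy
    exact (pow_pos hr.out.pos n).ne' (Nat.eq_zero_of_zero_dvd hy)
  have h1 : orderOf (q ^ (orderOf q / s)) = s := orderOf_pow_orderOf_div hq0 hsq
  have h2 : orderOf (y ^ (orderOf y / r)) = r := orderOf_pow_orderOf_div hy0 hry
  have hc : Commute (q ^ (orderOf q / s)) (y ^ (orderOf y / r)) :=
    Commute.pow_pow (show Commute q y from hcomm) _ _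
  refine ⟨q ^ (orderOf q / s) * y ^ (orderOf y / r), ?_⟩
  have hcop : Nat.Coprime (orderOf (q ^ (orderOf q / s))) (orderOf (y ^ (orderOf y / r))) := by
    rw [h1, h2]
    exact (Nat.coprime_primes hs.out hr.out).2 hsr
  rw [hc.orderOf_mul_eq_mul_orderOf_of_coprime hcop, h1, h2]

/-- L1: coprime action gives an element of order `s * r`. -/
theorem exists_orderOf_of_coprime_action {G : Type*} [Group G] [Finite G] (N : Subgroup G)
    [N.Normal] (s r : ℕ) [hs : Fact s.Prime] [hr : Fact r.Prime] (hsN : ¬ s ∣ Nat.card N)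
    (hrN : r ∣ Nat.card N) (a : ℕ) (hQ : ∀ Q : Sylow s G, Nat.card (Q : Subgroup G) = a)
    (hfree : ∀ R : Sylow r N, ¬ a ∣ Nat.card (R : Subgroup N) - 1) :
    ∃ g : G, orderOf g = s * r := by
  classical
  have hsr : s ≠ r := by
    rintro rfl; exact hsN hrN
  obtain ⟨R⟩ : Nonempty (Sylow r N) := inferInstance
  obtain ⟨R', hR'⟩ : ∃ R' : Subgroup G, R' = (R : Subgroup N).map N.subtype := ⟨_, rfl⟩
  have hfrat : Subgroup.normalizer (R' : Set G) ⊔ N = ⊤ := by
    rw [hR']; exact Sylow.normalizer_sup_eq_top R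
  obtain ⟨H, hH⟩ : ∃ H : Subgroup G, H = Subgroup.normalizer (R' : Set G) := ⟨_, rfl⟩
  rw [← hH] at hfrat
  have hR'card : Nat.card R' = Nat.card (R : Subgroup N) := by
    rw [hR']; exact Subgroup.card_map_of_injective N.subtype_injective
  -- `a ∣ |H|`
  obtain ⟨Q0⟩ : Nonempty (Sylow s G) := inferInstance
  have ha := hQ Q0
  obtain ⟨k, hk⟩ := (IsPGroup.iff_card.1 Q0.2)
  have haH : a ∣ Nat.card H := by
    have h1 : N.relIndex (H ⊔ N) = N.relIndex H := Subgroup.relIndex_sup_right H N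
    rw [hfrat, Subgroup.relIndex_top_right] at h1
    have h2 : N.relIndex H ∣ Nat.card H := Subgroup.relIndex_dvd_card N H
    have h3 : a ∣ Nat.card N * N.index := by
      rw [Subgroup.card_mul_index, ← ha]
      exact Subgroup.card_subgroup_dvd_card _
    have h4 : Nat.Coprime a (Nat.card N) := by
      rw [← ha, hk]
      exact Nat.Coprime.pow_left k ((Nat.Prime.coprime_iff_not_dvd hs.out).2 hsN)
    have h5 : a ∣ N.index := h4.dvd_of_dvd_mul_left h3
    exact (h1 ▸ h5).trans h2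
  -- a subgroup of `H` of order `a`
  have hak : a = s ^ k := by rw [← ha, hk]
  obtain ⟨K, hK⟩ := Sylow.exists_subgroup_card_pow_prime (G := H) s (n := k) (by rw [← hak]; exact haH)
  -- the action of `K` on `R' ∖ {1}`
  let X := {y : G // y ∈ R' ∧ y ≠ 1}
  have hnorm : ∀ (c : K) (y : G), y ∈ R' → ((c : H) : G) * y * ((c : H) : G)⁻¹ ∈ R' := by
    intro c y hy
    have hc : ((c : H) : G) ∈ Subgroup.normalizer (R' : Set G) := by rw [← hH]; exact (c : H).2
    exact (Subgroup.mem_normalizer_iff.1 hc y).1 hy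
  letI : MulAction K X :=
    { smul := fun c y => ⟨((c : H) : G) * y.1 * ((c : H) : G)⁻¹, hnorm c y.1 y.2.1, by
        intro h
        apply y.2.2
        have : y.1 = ((c : H) : G)⁻¹ * (((c : H) : G) * y.1 * ((c : H) : G)⁻¹) * ((c : H) : G) := by
          group
        rw [this, h]; group⟩
      one_smul := by
        intro y
        apply Subtype.ext
        show (((1 : K) : H) : G) * y.1 * (((1 : K) : H) : G)⁻¹ = y.1
        simp
      mul_smul := by
        intro c d y
        apply Subtype.ext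
        show (((c * d : K) : H) : G) * y.1 * (((c * d : K) : H) : G)⁻¹ =
          ((c : H) : G) * (((d : H) : G) * y.1 * ((d : H) : G)⁻¹) * ((c : H) : G)⁻¹
        simp only [Subgroup.coe_mul, mul_inv_rev]
        group }
  have hsmul : ∀ (c : K) (y : X), ((c • y : X) : G) = ((c : H) : G) * y.1 * ((c : H) : G)⁻¹ :=
    fun _ _ => rfl
  have hXcard : Nat.card X = Nat.card (R : Subgroup N) - 1 := by
    have e : X ≃ (((R' : Set G) \ {1} : Set G)) :=
      { toFun := fun y => ⟨y.1, y.2.1, by simpa using y.2.2⟩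
        invFun := fun y => ⟨y.1, y.2.1, by simpa using y.2.2⟩
        left_inv := fun _ => rfl
        right_inv := fun _ => rfl }
    rw [Nat.card_congr e, _root_.Nat.card_coe_set_eq,
      Set.ncard_sdiff_singleton_of_mem (R'.one_mem), ← hR'card]
    rfl
  by_contra hno
  apply hfree R
  rw [← hXcard, hak, ← hK]
  apply Cfsg.Agent.Lib.Lead.SylSq.card_dvd_of_free
  intro y c hcy
  by_contra hc1
  apply hno
  have hq1 : ((c : H) : G) ≠ 1 := by
    intro h
    apply hc1
    apply Subtype.ext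
    apply Subtype.ext
    simpa using h
  have hcomm : ((c : H) : G) * y.1 = y.1 * ((c : H) : G) := by
    have := congrArg Subtype.val hcy
    rw [hsmul] at this
    calc ((c : H) : G) * y.1 = (((c : H) : G) * y.1 * ((c : H) : G)⁻¹) * ((c : H) : G) := by group
      _ = y.1 * ((c : H) : G) := by rw [this]
  have hoq : orderOf ((c : H) : G) ∣ s ^ k := by
    rw [Subgroup.orderOf_coe, Subgroup.orderOf_coe, ← hK]
    exact orderOf_dvd_natCard c
  obtain ⟨j, hj⟩ := (IsPGroup.iff_card.1 R.2)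
  have hoy : orderOf y.1 ∣ r ^ j := by
    rw [← hj, ← hR'card]
    have := orderOf_dvd_natCard (⟨y.1, y.2.1⟩ : R')
    rwa [Subgroup.orderOf_mk] at this
  exact exists_orderOf_mul_of_commute s r hsr _ _ hq1 y.2.2 k j hoq hoy hcomm

/-- the certificate of connectedness of the prime graph of a group of order `7920` -/
def Cert (G : Type*) [Group G] : Prop :=
  ∀ s ∈ ({2, 3, 5} : Finset ℕ), (∃ g : G, orderOf g = 11 * s) ∨
    ∃ r ∈ ({2, 3, 5} : Finset ℕ), (∃ g : G, orderOf g = 11 * r) ∧ (∃ g : G, orderOf g = s * r)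

/-- a prime divisor of `7920` is `2`, `3`, `5` or `11` -/
theorem prime_dvd_7920 (a : ℕ) (ha : a.Prime) (hd : a ∣ 7920) : a = 2 ∨ a = 3 ∨ a = 5 ∨ a = 11 := by
  have h : a ∣ 2 ^ 4 * 3 ^ 2 * 5 * 11 := by
    have : (7920 : ℕ) = 2 ^ 4 * 3 ^ 2 * 5 * 11 := by norm_num
    rwa [this] at hd
  rcases (Nat.Prime.dvd_mul ha).1 h with h | h
  · rcases (Nat.Prime.dvd_mul ha).1 h with h | h
    · rcases (Nat.Prime.dvd_mul ha).1 h with h | h
      · left
        exact (Nat.prime_dvd_prime_iff_eq ha (by norm_num)).1 (ha.dvd_of_dvd_pow h)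
      · right; left
        exact (Nat.prime_dvd_prime_iff_eq ha (by norm_num)).1 (ha.dvd_of_dvd_pow h)
    · right; right; left
      exact (Nat.prime_dvd_prime_iff_eq ha (by norm_num)).1 h
  · right; right; right
    exact (Nat.prime_dvd_prime_iff_eq ha (by norm_num)).1 h

theorem false_of_cert {G : Type*} [Group G] [Finite G] (hord : Nat.card G = 7920)
    (hdisc : (∃ A : Set ℕ, (∃ a ∈ A, a.Prime ∧ a ∣ Nat.card G) ∧ (∃ b ∉ A, b.Prime ∧ b ∣ Nat.card G) ∧
      ∀ a ∈ A, ∀ b ∉ A, a.Prime → b.Prime → a ∣ Nat.card G → b ∣ Nat.card G →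
        ¬ ∃ g : G, orderOf g = a * b)) (hc : Cert G) : False := by
  obtain ⟨A, ⟨a, haA, hap, had⟩, ⟨b, hbA, hbp, hbd⟩, hcross⟩ := hdisc
  have hp2 : Nat.Prime 2 := by norm_num
  have hp3 : Nat.Prime 3 := by norm_num
  have hp5 : Nat.Prime 5 := by norm_num
  have hp11 : Nat.Prime 11 := by norm_num
  have hdv : ∀ x : ℕ, x = 2 ∨ x = 3 ∨ x = 5 ∨ x = 11 → x ∣ Nat.card G := by
    intro x hx
    rw [hord]
    rcases hx with rfl | rfl | rfl | rfl <;> norm_num
  have hpr : ∀ x : ℕ, x = 2 ∨ x = 3 ∨ x = 5 ∨ x = 11 → x.Prime := by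
    intro x hx
    rcases hx with rfl | rfl | rfl | rfl <;> norm_num
  -- an edge keeps both ends on the same side
  have side : ∀ x y : ℕ, (x = 2 ∨ x = 3 ∨ x = 5 ∨ x = 11) → (y = 2 ∨ y = 3 ∨ y = 5 ∨ y = 11) →
      (∃ g : G, orderOf g = x * y) → (x ∈ A ↔ y ∈ A) := by
    intro x y hx hy hg
    constructor
    · intro hxA
      by_contra hyA
      exact hcross x hxA y hyA (hpr x hx) (hpr y hy) (hdv x hx) (hdv y hy) hg
    · intro hyA
      by_contra hxA
      obtain ⟨g, hg⟩ := hg
      exact hcross y hyA x hxA (hpr y hy) (hpr x hx) (hdv y hy) (hdv x hx) ⟨g, by rw [hg, mul_comm]⟩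
  have hmem : ∀ x : ℕ, x ∈ ({2, 3, 5} : Finset ℕ) → (x = 2 ∨ x = 3 ∨ x = 5 ∨ x = 11) := by
    intro x hx
    simp only [Finset.mem_insert, Finset.mem_singleton] at hx
    rcases hx with h | h | h
    · exact Or.inl h
    · exact Or.inr (Or.inl h)
    · exact Or.inr (Or.inr (Or.inl h))
  have h11 : ∀ x : ℕ, x ∈ ({2, 3, 5} : Finset ℕ) → ((11 : ℕ) ∈ A ↔ x ∈ A) := by
    intro x hx
    rcases hc x hx with h | ⟨r, hr, h1, h2⟩
    · exact side 11 x (by simp) (hmem x hx) h
    · exact (side 11 r (by simp) (hmem r hr) h1).trans (side x r (hmem x hx) (hmem r hr) h2).symm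
  have hall : ∀ x : ℕ, (x = 2 ∨ x = 3 ∨ x = 5 ∨ x = 11) → ((11 : ℕ) ∈ A ↔ x ∈ A) := by
    intro x hx
    rcases hx with rfl | rfl | rfl | rfl
    · exact h11 2 (by simp)
    · exact h11 3 (by simp)
    · exact h11 5 (by simp)
    · exact Iff.rfl
  rw [hord] at had hbd
  have ha' := prime_dvd_7920 a hap had
  have hb' := prime_dvd_7920 b hbp hbd
  exact hbA ((hall b hb').1 ((hall a ha').2 haA))

end Cfsg.Agent.Lib.S2490
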