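import Mathlib
import Cfsg.Agent.Lib.S2490.Adj
import Cfsg.Agent.Lib.Helper4.Sylow
import Cfsg.Agent.Lib.Helper5.Ord2.Kit

/-!
# S2490, piece E: a group of order 7920 with `n_11 ∈ {45, 144}` and a nontrivial normal
`11'`-subgroup has a connected prime graph
-/

set_option autoImplicit false
set_option linter.style.haveILetI false

namespace Cfsg.Agent.Lib.S2490

open MulAction Cfsg.Agent.Lib.Helper5.OrdKit Cfsg.Agent.Lib.Helper5.O5040

/-- an element of order `11 r` forces `r ∣ |N(P_11)|` -/
theorem mul_card_sylow_dvd_of_orderOf {G : Type*} [Group G] [Finite G] [Fact (Nat.Prime 11)]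
    (hord : Nat.card G = 7920) (r : ℕ) (hr0 : r ≠ 0) (g : G)
    (hg : orderOf g = 11 * r) : r * Nat.card (Sylow 11 G) ∣ 720 := by
  have hx : orderOf (g ^ r) = 11 := by
    rw [orderOf_pow' g hr0, hg, Nat.gcd_mul_left_left, Nat.mul_div_cancel _ (Nat.pos_of_ne_zero hr0)]
  have hZ : IsPGroup 11 (Subgroup.zpowers (g ^ r)) :=
    IsPGroup.of_card (n := 1) (by rw [Nat.card_zpowers, hx, pow_one])
  obtain ⟨P, hP⟩ := hZ.exists_le_sylow
  have hPc : Nat.card (P : Subgroup G) = 11 := by
    have := Cfsg.Agent.Lib.Helper4.Sylow.card_sylow_of_card_eq (p := 11) (a := 1) (m := 720)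
      (by rw [hord]; norm_num) (by norm_num) P
    simpa using this
  have hPeq : Subgroup.zpowers (g ^ r) = (P : Subgroup G) :=
    Subgroup.eq_of_le_of_card_ge hP (by rw [hPc, Nat.card_zpowers, hx])
  have hgC : g ∈ Subgroup.centralizer ((P : Subgroup G) : Set G) := by
    rw [Subgroup.mem_centralizer_iff]
    intro h hh
    rw [SetLike.mem_coe, ← hPeq] at hh
    obtain ⟨k, rfl⟩ := Subgroup.mem_zpowers_iff.1 hh
    exact (((Commute.refl g).pow_left r).zpow_left k).eq
  have hgN : g ∈ Subgroup.normalizer ((P : Subgroup G) : Set G) :=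
    Subgroup.centralizer_le_normalizer _ hgC
  have h1 : 11 * r ∣ Nat.card (Subgroup.normalizer ((P : Subgroup G) : Set G)) := by
    rw [← hg]
    have := orderOf_dvd_natCard (⟨g, hgN⟩ : Subgroup.normalizer ((P : Subgroup G) : Set G))
    rwa [Subgroup.orderOf_mk] at this
  have h2 := Cfsg.Agent.Lib.Helper4.Sylow.card_sylow_mul_card_normalizer P
  rw [hord] at h2
  obtain ⟨c, hc⟩ := h1
  rw [hc] at h2
  refine ⟨c, ?_⟩
  have : 11 * (r * Nat.card (Sylow 11 G) * c) = 11 * 720 := by
    calc 11 * (r * Nat.card (Sylow 11 G) * c) = Nat.card (Sylow 11 G) * (11 * r * c) := by ring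
      _ = 7920 := h2
      _ = 11 * 720 := by norm_num
  exact (Nat.eq_of_mul_eq_mul_left (by norm_num) this).symm

/-- a Sylow subgroup of a `p`-group is everything -/
theorem card_sylow_of_card_pow {N : Type*} [Group N] [Finite N] (p j : ℕ) [Fact p.Prime]
    (hN : Nat.card N = p ^ j) (R : Sylow p N) : Nat.card (R : Subgroup N) = p ^ j := by
  have htop : IsPGroup p (⊤ : Subgroup N) := IsPGroup.of_card (n := j) (by rw [Subgroup.card_top, hN])
  have := R.is_maximal' htop le_top
  rw [← this, Subgroup.card_top, hN]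

/-- the case `|N| = 16`, `n_11 = 45` is impossible -/
theorem false_of_normal_sixteen {G : Type*} [Group G] [Finite G] [h11 : Fact (Nat.Prime 11)]
    (hord : Nat.card G = 7920) (N : Subgroup G) [N.Normal] (hN : Nat.card N = 16)
    (hn : Nat.card (Sylow 11 G) = 45) : False := by
  haveI h3p : Fact (Nat.Prime 3) := ⟨by norm_num⟩
  have hS11 : ∀ Q : Sylow 11 G, Nat.card (Q : Subgroup G) = 11 := fun Q => by
    have := Cfsg.Agent.Lib.Helper4.Sylow.card_sylow_of_card_eq (p := 11) (a := 1) (m := 720)
      (by rw [hord]; norm_num) (by norm_num) Q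
    simpa using this
  obtain ⟨P⟩ : Nonempty (Sylow 11 G) := inferInstance
  have hP := hS11 P
  obtain ⟨x, hxP, hx1, hx11⟩ := exists_gen P hP
  have hox : orderOf x = 11 := orderOf_eq_prime hx11 hx1
  have hPeq : Subgroup.zpowers x = (P : Subgroup G) :=
    Subgroup.eq_of_le_of_card_ge (by rw [Subgroup.zpowers_le]; exact hxP)
      (by rw [hP, Nat.card_zpowers, hox])
  -- `x` centralizes `N`
  let c : MulAut N := MulAut.conjNormal x
  have hc : c ^ 11 = 1 := by
    show (MulAut.conjNormal x : MulAut N) ^ 11 = 1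
    rw [← map_pow, hx11, map_one]
  have hmod := card_fixedBy_modEq_card (G := MulAut N) (X := N) 11 c hc
  obtain ⟨F, hF⟩ : ∃ F : Subgroup N, F = (Subgroup.centralizer ({x} : Set G)).subgroupOf N :=
    ⟨_, rfl⟩
  have hFset : fixedBy N c = (F : Set N) := by
    ext a
    rw [mem_fixedBy, SetLike.mem_coe, hF, Subgroup.mem_subgroupOf,
      Subgroup.mem_centralizer_singleton_iff]
    have h1 : ((c • a : N) : G) = x * a * x⁻¹ := by
      show ((MulAut.conjNormal x a : N) : G) = x * a * x⁻¹
      exact MulAut.conjNormal_apply x a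
    constructor
    · intro h
      have h2 : x * a * x⁻¹ = a := by rw [← h1, h]
      calc (a : G) * x = (x * a * x⁻¹) * x := by rw [h2]
        _ = x * a := by group
    · intro h
      apply Subtype.ext
      rw [h1]
      calc x * (a : G) * x⁻¹ = ((a : G) * x) * x⁻¹ := by rw [h]
        _ = a := by group
  have hFcard : Nat.card (fixedBy N c) = Nat.card F := by rw [hFset]; rfl
  have hFdvd : Nat.card F ∣ 16 := by rw [← hN]; exact Subgroup.card_subgroup_dvd_card F
  have hF16 : Nat.card F = 16 := by
    rw [hFcard, hN] at hmod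
    unfold Nat.ModEq at hmod
    have hle : Nat.card F ≤ 16 := Nat.le_of_dvd (by norm_num) hFdvd
    have hpos : 0 < Nat.card F := Nat.card_pos
    interval_cases h : Nat.card F <;> first | rfl | (exfalso; revert hmod; decide) | (exfalso; revert hFdvd; decide)
  have hFtop : F = ⊤ := Subgroup.eq_top_of_card_eq F (by rw [hF16, hN])
  have hcomm : ∀ a ∈ N, a * x = x * a := by
    intro a ha
    have : (⟨a, ha⟩ : N) ∈ F := by rw [hFtop]; trivial
    rw [hF, Subgroup.mem_subgroupOf, Subgroup.mem_centralizer_singleton_iff] at this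
    exact this
  have hNC : N ≤ Subgroup.centralizer ((P : Subgroup G) : Set G) := by
    intro a ha
    rw [Subgroup.mem_centralizer_iff]
    intro h hh
    rw [SetLike.mem_coe, ← hPeq] at hh
    obtain ⟨k, rfl⟩ := Subgroup.mem_zpowers_iff.1 hh
    exact ((show Commute x a from (hcomm a ha).symm).zpow_left k).eq
  -- `C(P) = N(P)`
  have h2 := Cfsg.Agent.Lib.Helper4.Sylow.card_sylow_mul_card_normalizer P
  rw [hord, hn] at h2
  have hNP : Nat.card (Subgroup.normalizer ((P : Subgroup G) : Set G)) = 176 := by omega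
  have hC16 : 16 ∣ Nat.card (Subgroup.centralizer ((P : Subgroup G) : Set G)) := by
    rw [← hN]; exact Subgroup.card_dvd_of_le hNC
  have hC11 : 11 ∣ Nat.card (Subgroup.centralizer ((P : Subgroup G) : Set G)) :=
    dvd_card_centralizer P hP
  have hC176 : 176 ∣ Nat.card (Subgroup.centralizer ((P : Subgroup G) : Set G)) := by
    have : Nat.Coprime 16 11 := by norm_num
    exact this.mul_dvd_of_dvd_of_dvd hC16 hC11
  have hle : Subgroup.normalizer ((P : Subgroup G) : Set G) ≤
      Subgroup.centralizer ((P : Subgroup G) : Set G) := by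
    have heq : Subgroup.centralizer ((P : Subgroup G) : Set G) =
        Subgroup.normalizer ((P : Subgroup G) : Set G) :=
      Subgroup.eq_of_le_of_card_ge (Subgroup.centralizer_le_normalizer _)
        (by rw [hNP]; exact Nat.le_of_dvd Nat.card_pos hC176)
    rw [heq]
  -- transfer
  have hcompl := MonoidHom.ker_transferSylow_isComplement' P hle
  obtain ⟨K, hK⟩ : ∃ K : Subgroup G, K = (MonoidHom.transferSylow P hle).ker := ⟨_, rfl⟩
  rw [← hK] at hcompl
  haveI hKn : K.Normal := by rw [hK]; exact MonoidHom.normal_ker _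
  have hKcard : Nat.card K = 720 := by
    have := hcompl.card_mul_card
    rw [hord, hP] at this
    omega
  have hfree : ∀ R : Sylow 3 K, ¬ 11 ∣ Nat.card (R : Subgroup K) - 1 := by
    intro R
    have := Cfsg.Agent.Lib.Helper4.Sylow.card_sylow_of_card_eq (p := 3) (a := 2) (m := 80)
      (by rw [hKcard]; norm_num) (by norm_num) R
    have h9 : Nat.card (R : Subgroup K) = 9 := by simpa using this
    rw [h9]; norm_num
  obtain ⟨g, hg⟩ := exists_orderOf_of_coprime_action K 11 3 (by rw [hKcard]; norm_num)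
    (by rw [hKcard]; norm_num) 11 hS11 hfree
  have := mul_card_sylow_dvd_of_orderOf hord 3 (by norm_num) g hg
  rw [hn] at this
  revert this; decide

/-- the order of a Sylow `r`-subgroup of a subgroup `N` of a group of order `7920` -/
theorem card_sylow_sub {G : Type*} [Group G] [Finite G] (hord : Nat.card G = 7920)
    (N : Subgroup G) (r : ℕ) [hr : Fact r.Prime] (hrN : r ∣ Nat.card N) (R : Sylow r N) :
    ∃ j, 1 ≤ j ∧ Nat.card (R : Subgroup N) = r ^ j ∧ r ^ j ∣ 7920 := by
  obtain ⟨j, hj⟩ := IsPGroup.iff_card.1 R.2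
  refine ⟨j, ?_, hj, ?_⟩
  · rcases Nat.eq_zero_or_pos j with h0 | hpos
    · exfalso
      rw [h0, pow_zero] at hj
      have := R.dvd_card_of_dvd_card hrN
      rw [hj] at this
      exact hr.out.one_lt.ne' (Nat.dvd_one.1 this)
    · exact hpos
  · rw [← hj, ← hord]
    exact (Subgroup.card_subgroup_dvd_card _).trans (Subgroup.card_subgroup_dvd_card N)

theorem cert_of_normal_coprime {G : Type*} [Group G] [Finite G] [Fact (Nat.Prime 11)]
    (hord : Nat.card G = 7920) (N : Subgroup G) [N.Normal] (hN1 : N ≠ ⊥)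
    (h11 : ¬ 11 ∣ Nat.card N)
    (hn : Nat.card (Sylow 11 G) = 45 ∨ Nat.card (Sylow 11 G) = 144) : Cert G := by
  haveI h2p : Fact (Nat.Prime 2) := ⟨by norm_num⟩
  haveI h3p : Fact (Nat.Prime 3) := ⟨by norm_num⟩
  haveI h5p : Fact (Nat.Prime 5) := ⟨by norm_num⟩
  have hS11 : ∀ Q : Sylow 11 G, Nat.card (Q : Subgroup G) = 11 := fun Q => by
    have := Cfsg.Agent.Lib.Helper4.Sylow.card_sylow_of_card_eq (p := 11) (a := 1) (m := 720)
      (by rw [hord]; norm_num) (by norm_num) Q
    simpa using this
  have hS2 : ∀ Q : Sylow 2 G, Nat.card (Q : Subgroup G) = 16 := fun Q => by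
    have := Cfsg.Agent.Lib.Helper4.Sylow.card_sylow_of_card_eq (p := 2) (a := 4) (m := 495)
      (by rw [hord]; norm_num) (by norm_num) Q
    simpa using this
  have hS3 : ∀ Q : Sylow 3 G, Nat.card (Q : Subgroup G) = 9 := fun Q => by
    have := Cfsg.Agent.Lib.Helper4.Sylow.card_sylow_of_card_eq (p := 3) (a := 2) (m := 880)
      (by rw [hord]; norm_num) (by norm_num) Q
    simpa using this
  have hS5 : ∀ Q : Sylow 5 G, Nat.card (Q : Subgroup G) = 5 := fun Q => by
    have := Cfsg.Agent.Lib.Helper4.Sylow.card_sylow_of_card_eq (p := 5) (a := 1) (m := 1584)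
      (by rw [hord]; norm_num) (by norm_num) Q
    simpa using this
  have hNdvd : Nat.card N ∣ 7920 := by rw [← hord]; exact Subgroup.card_subgroup_dvd_card N
  have hNne1 : Nat.card N ≠ 1 := fun h => hN1 (Subgroup.card_eq_one.1 h)
  -- prime divisors of `|N|` are adjacent to `11`
  have adj2 : 2 ∣ Nat.card N → ∃ g : G, orderOf g = 11 * 2 := by
    intro h2
    refine exists_orderOf_of_coprime_action N 11 2 h11 h2 11 hS11 ?_
    intro R
    obtain ⟨j, hj1, hj, hjd⟩ := card_sylow_sub hord N 2 h2 R
    have hj4 : j ≤ 4 := by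
      by_contra hcon
      have : (2 : ℕ) ^ 5 ∣ 2 ^ j := pow_dvd_pow 2 (by omega)
      have := this.trans hjd
      revert this; decide
    rw [hj]
    interval_cases j <;> decide
  have adj3 : 3 ∣ Nat.card N → ∃ g : G, orderOf g = 11 * 3 := by
    intro h3
    refine exists_orderOf_of_coprime_action N 11 3 h11 h3 11 hS11 ?_
    intro R
    obtain ⟨j, hj1, hj, hjd⟩ := card_sylow_sub hord N 3 h3 R
    have hj4 : j ≤ 2 := by
      by_contra hcon
      have : (3 : ℕ) ^ 3 ∣ 3 ^ j := pow_dvd_pow 3 (by omega)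
      have := this.trans hjd
      revert this; decide
    rw [hj]
    interval_cases j <;> decide
  have adj5 : 5 ∣ Nat.card N → ∃ g : G, orderOf g = 11 * 5 := by
    intro h5
    refine exists_orderOf_of_coprime_action N 11 5 h11 h5 11 hS11 ?_
    intro R
    obtain ⟨j, hj1, hj, hjd⟩ := card_sylow_sub hord N 5 h5 R
    have hj4 : j ≤ 1 := by
      by_contra hcon
      have : (5 : ℕ) ^ 2 ∣ 5 ^ j := pow_dvd_pow 5 (by omega)
      have := this.trans hjd
      revert this; decide
    rw [hj]
    interval_cases j <;> decide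
  rcases hn with hn | hn
  · -- `n_11 = 45`: `N` is a `2`-group
    have h3N : ¬ 3 ∣ Nat.card N := by
      intro h
      obtain ⟨g, hg⟩ := adj3 h
      have := mul_card_sylow_dvd_of_orderOf hord 3 (by norm_num) g hg
      rw [hn] at this
      revert this; decide
    have h5N : ¬ 5 ∣ Nat.card N := by
      intro h
      obtain ⟨g, hg⟩ := adj5 h
      have := mul_card_sylow_dvd_of_orderOf hord 5 (by norm_num) g hg
      rw [hn] at this
      revert this; decide
    have hN16 : Nat.card N ∣ 2 ^ 4 := by
      have hcop : Nat.Coprime (Nat.card N) 495 := by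
        have e : (495 : ℕ) = 3 * 3 * 5 * 11 := by norm_num
        rw [e]
        have c3 : Nat.Coprime (Nat.card N) 3 :=
          ((Nat.Prime.coprime_iff_not_dvd (by norm_num)).2 h3N).symm
        have c5 : Nat.Coprime (Nat.card N) 5 :=
          ((Nat.Prime.coprime_iff_not_dvd (by norm_num)).2 h5N).symm
        have c11 : Nat.Coprime (Nat.card N) 11 :=
          ((Nat.Prime.coprime_iff_not_dvd (by norm_num)).2 h11).symm
        exact ((c3.mul_right c3).mul_right c5).mul_right c11
      have : Nat.card N ∣ 2 ^ 4 * 495 := by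
        have e : (7920 : ℕ) = 2 ^ 4 * 495 := by norm_num
        rwa [e] at hNdvd
      exact hcop.dvd_of_dvd_mul_right this
    obtain ⟨j, hj4, hj⟩ := (Nat.dvd_prime_pow Nat.prime_two).1 hN16
    have hj0 : j ≠ 0 := by
      rintro rfl
      exact hNne1 (by rw [hj, pow_zero])
    have h2N : 2 ∣ Nat.card N := by rw [hj]; exact dvd_pow_self 2 hj0
    have hR : ∀ R : Sylow 2 N, Nat.card (R : Subgroup N) = 2 ^ j := fun R =>
      card_sylow_of_card_pow 2 j hj R
    by_cases hj4' : j = 4
    · exfalso
      rw [hj4'] at hj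
      exact false_of_normal_sixteen hord N (by rw [hj]; norm_num) hn
    have e2 := adj2 h2N
    have e3 : ∃ g : G, orderOf g = 3 * 2 := by
      refine exists_orderOf_of_coprime_action N 3 2 h3N h2N 9 hS3 ?_
      intro R
      rw [hR R]
      interval_cases j <;> first | omega | decide
    have e5 : ∃ g : G, orderOf g = 5 * 2 := by
      refine exists_orderOf_of_coprime_action N 5 2 h5N h2N 5 hS5 ?_
      intro R
      rw [hR R]
      interval_cases j <;> first | omega | decide
    intro s hs
    simp only [Finset.mem_insert, Finset.mem_singleton] at hs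
    rcases hs with rfl | rfl | rfl
    · left; exact e2
    · right; exact ⟨2, by simp, e2, e3⟩
    · right; exact ⟨2, by simp, e2, e5⟩
  · -- `n_11 = 144`: `|N| = 5`
    have h2N : ¬ 2 ∣ Nat.card N := by
      intro h
      obtain ⟨g, hg⟩ := adj2 h
      have := mul_card_sylow_dvd_of_orderOf hord 2 (by norm_num) g hg
      rw [hn] at this
      revert this; decide
    have h3N : ¬ 3 ∣ Nat.card N := by
      intro h
      obtain ⟨g, hg⟩ := adj3 h
      have := mul_card_sylow_dvd_of_orderOf hord 3 (by norm_num) g hg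
      rw [hn] at this
      revert this; decide
    have hN5 : Nat.card N ∣ 5 ^ 1 := by
      have hcop : Nat.Coprime (Nat.card N) 1584 := by
        have e : (1584 : ℕ) = 2 * 2 * 2 * 2 * 3 * 3 * 11 := by norm_num
        rw [e]
        have c2 : Nat.Coprime (Nat.card N) 2 :=
          ((Nat.Prime.coprime_iff_not_dvd (by norm_num)).2 h2N).symm
        have c3 : Nat.Coprime (Nat.card N) 3 :=
          ((Nat.Prime.coprime_iff_not_dvd (by norm_num)).2 h3N).symm
        have c11 : Nat.Coprime (Nat.card N) 11 :=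
          ((Nat.Prime.coprime_iff_not_dvd (by norm_num)).2 h11).symm
        exact ((((((c2.mul_right c2).mul_right c2).mul_right c2).mul_right c3).mul_right
          c3).mul_right c11)
      have : Nat.card N ∣ 5 ^ 1 * 1584 := by
        have e : (7920 : ℕ) = 5 ^ 1 * 1584 := by norm_num
        rwa [e] at hNdvd
      exact hcop.dvd_of_dvd_mul_right this
    obtain ⟨j, hj1, hj⟩ := (Nat.dvd_prime_pow (by norm_num : Nat.Prime 5)).1 hN5
    have hj0 : j ≠ 0 := by
      rintro rfl
      exact hNne1 (by rw [hj, pow_zero])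
    have hj1' : j = 1 := by omega
    subst hj1'
    have h5N : 5 ∣ Nat.card N := by rw [hj]; norm_num
    have hR : ∀ R : Sylow 5 N, Nat.card (R : Subgroup N) = 5 ^ 1 := fun R =>
      card_sylow_of_card_pow 5 1 hj R
    have e5 := adj5 h5N
    have e3 : ∃ g : G, orderOf g = 3 * 5 := by
      refine exists_orderOf_of_coprime_action N 3 5 h3N h5N 9 hS3 ?_
      intro R
      rw [hR R]; decide
    have e2 : ∃ g : G, orderOf g = 2 * 5 := by
      refine exists_orderOf_of_coprime_action N 2 5 h2N h5N 16 hS2 ?_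
      intro R
      rw [hR R]; decide
    intro s hs
    simp only [Finset.mem_insert, Finset.mem_singleton] at hs
    rcases hs with rfl | rfl | rfl
    · right; exact ⟨5, by simp, e5, e2⟩
    · right; exact ⟨5, by simp, e5, e3⟩
    · left; exact e5

end Cfsg.Agent.Lib.S2490
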