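import Mathlib
import Cfsg.Agent.Lib.S2490.Adj
import Cfsg.Agent.Lib.Helper5.Ord2.Kit
import Cfsg.Agent.Lib.Helper4.Sylow

/-!
# S2490, piece D: a group of order `7920` with `1` or `12` Sylow `11`-subgroups

(author: lead)  Then `66 ∣ |C(P)|`, giving elements of orders `22` and `33`; and either `5 ∣ |C(P)|`
(an element of order `55`) or `L1` inside `N(P)` with the normal subgroup `C(P)` gives an element
of order `15`.
-/

set_option autoImplicit false
set_option linter.unusedSectionVars false
set_option linter.unusedVariables false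

namespace Cfsg.Agent.Lib.S2490

open Subgroup

/-- an element of prime order `q` centralizing `P`, times a generator of `P` -/
theorem exists_orderOf_of_dvd_centralizer {G : Type*} [Group G] [Finite G] (P : Subgroup G)
    (x : G) (hxP : x ∈ P) (hx : orderOf x = 11) (q : ℕ) [hq : Fact q.Prime] (hq11 : q ≠ 11)
    (h : q ∣ Nat.card (Subgroup.centralizer (P : Set G))) : ∃ g : G, orderOf g = 11 * q := by
  have : Fact (Nat.Prime 11) := ⟨by norm_num⟩
  obtain ⟨c, hcC, hc⟩ := Cfsg.Agent.Lib.Helper5.O5040.exists_orderOf_of_dvd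
    (Subgroup.centralizer (P : Set G)) q h
  have hcomm : x * c = c * x := by
    rw [Subgroup.mem_centralizer_iff] at hcC
    exact hcC x hxP
  have hx1 : x ≠ 1 := by
    intro h1; rw [h1, orderOf_one] at hx; norm_num at hx
  have hc1 : c ≠ 1 := by
    intro h1; rw [h1, orderOf_one] at hc; exact hq.out.one_lt.ne hc
  exact exists_orderOf_mul_of_commute 11 q (fun h => hq11 h.symm) x c hx1 hc1 1 1
    (by rw [hx, pow_one]) (by rw [hc, pow_one]) hcomm

/-- `C(P)` is normal in `N(P)` -/
theorem centralizer_subgroupOf_normalizer_normal {G : Type*} [Group G] (P : Subgroup G) :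
    ((Subgroup.centralizer (P : Set G)).subgroupOf (Subgroup.normalizer (P : Set G))).Normal := by
  rw [← Subgroup.normalizerMonoidHom_ker]
  exact MonoidHom.normal_ker _

/-- the order of a Sylow `3`-subgroup of a group of order `132`, `66`, `1584` or `792` is `3` or
`9` -/
theorem card_sylow3_of {H : Type*} [Group H] [Finite H] [Fact (Nat.Prime 3)]
    (h : Nat.card H = 132 ∨ Nat.card H = 66 ∨ Nat.card H = 1584 ∨ Nat.card H = 792)
    (R : Sylow 3 H) : Nat.card (R : Subgroup H) = 3 ∨ Nat.card (R : Subgroup H) = 9 := by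
  rcases h with h | h | h | h
  · left
    have := Cfsg.Agent.Lib.Helper4.Sylow.card_sylow_of_card_eq (p := 3) (a := 1) (m := 44)
      (by rw [h]; norm_num) (by norm_num) R
    simpa using this
  · left
    have := Cfsg.Agent.Lib.Helper4.Sylow.card_sylow_of_card_eq (p := 3) (a := 1) (m := 22)
      (by rw [h]; norm_num) (by norm_num) R
    simpa using this
  · right
    have := Cfsg.Agent.Lib.Helper4.Sylow.card_sylow_of_card_eq (p := 3) (a := 2) (m := 176)
      (by rw [h]; norm_num) (by norm_num) R
    simpa using this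
  · right
    have := Cfsg.Agent.Lib.Helper4.Sylow.card_sylow_of_card_eq (p := 3) (a := 2) (m := 88)
      (by rw [h]; norm_num) (by norm_num) R
    simpa using this

theorem cert_of_card_sylow_small {G : Type*} [Group G] [Finite G] [Fact (Nat.Prime 11)]
    (hord : Nat.card G = 7920)
    (h : Nat.card (Sylow 11 G) = 1 ∨ Nat.card (Sylow 11 G) = 12) :
    (∃ g : G, orderOf g = 11 * 2) ∧ (∃ g : G, orderOf g = 11 * 3) ∧
      ((∃ g : G, orderOf g = 11 * 5) ∨ (∃ g : G, orderOf g = 5 * 3)) := by
  have : Fact (Nat.Prime 2) := ⟨by norm_num⟩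
  have : Fact (Nat.Prime 3) := ⟨by norm_num⟩
  have : Fact (Nat.Prime 5) := ⟨by norm_num⟩
  obtain ⟨P⟩ : Nonempty (Sylow 11 G) := inferInstance
  have hP : Nat.card (P : Subgroup G) = 11 :=
    Cfsg.Agent.Lib.Helper5.OrdKit.card_sylow_prime 720 (by rw [hord]) (by norm_num) P
  have h3 := Cfsg.Agent.Lib.Helper4.Sylow.card_sylow_mul_card_normalizer P
  rw [hord] at h3
  obtain ⟨d, hd, hNC⟩ := Cfsg.Agent.Lib.Helper5.OrdKit.card_normalizer_eq_mul P hP
  have hd10 : d = 1 ∨ d = 2 ∨ d = 5 ∨ d = 10 := by
    have hd' : d ∣ 10 := by simpa using hd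
    have hle : d ≤ 10 := Nat.le_of_dvd (by norm_num) hd'
    interval_cases d <;> omega
  generalize hNdef : Subgroup.normalizer ((P : Subgroup G) : Set G) = N at *
  generalize hCdef : Subgroup.centralizer ((P : Subgroup G) : Set G) = C at *
  have hNcard : Nat.card N = 7920 ∨ Nat.card N = 660 := by
    rcases h with h | h
    · left; rw [h] at h3; omega
    · right; rw [h] at h3; omega
  -- a generator of `P`
  obtain ⟨x, hxP, hx⟩ := Cfsg.Agent.Lib.Helper5.O5040.exists_orderOf_of_dvd (P : Subgroup G) 11
    (by rw [hP])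
  have hCval : Nat.card C = 7920 ∨ Nat.card C = 3960 ∨ Nat.card C = 1584 ∨ Nat.card C = 792 ∨
      Nat.card C = 660 ∨ Nat.card C = 330 ∨ Nat.card C = 132 ∨ Nat.card C = 66 := by
    rcases hNcard with hc | hc <;> rcases hd10 with rfl | rfl | rfl | rfl <;>
      rw [hc] at hNC <;> omega
  have h6 : 2 ∣ Nat.card C ∧ 3 ∣ Nat.card C := by
    rcases hCval with hv | hv | hv | hv | hv | hv | hv | hv <;> rw [hv] <;> constructor <;>
      norm_num
  have e2 := exists_orderOf_of_dvd_centralizer (P : Subgroup G) x hxP hx 2 (by norm_num)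
    (by rw [hCdef]; exact h6.1)
  have e3 := exists_orderOf_of_dvd_centralizer (P : Subgroup G) x hxP hx 3 (by norm_num)
    (by rw [hCdef]; exact h6.2)
  refine ⟨e2, e3, ?_⟩
  by_cases h5 : 5 ∣ Nat.card C
  · left
    exact exists_orderOf_of_dvd_centralizer (P : Subgroup G) x hxP hx 5 (by norm_num)
      (by rw [hCdef]; exact h5)
  · right
    -- `L1` inside `N(P)` with the normal subgroup `C(P)`
    have hCN : C ≤ N := by
      rw [← hCdef, ← hNdef]; exact Subgroup.centralizer_le_normalizer _
    have hnorm : (C.subgroupOf N).Normal := by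
      rw [← hCdef, ← hNdef]; exact centralizer_subgroupOf_normalizer_normal _
    have hCcard : Nat.card (C.subgroupOf N) = Nat.card C :=
      Nat.card_congr (Subgroup.subgroupOfEquivOfLe hCN).toEquiv
    have hCval' : Nat.card C = 132 ∨ Nat.card C = 66 ∨ Nat.card C = 1584 ∨ Nat.card C = 792 := by
      rcases hCval with hv | hv | hv | hv | hv | hv | hv | hv
      · exfalso; apply h5; rw [hv]; norm_num
      · exfalso; apply h5; rw [hv]; norm_num
      · right; right; left; exact hv
      · right; right; right; exact hv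
      · exfalso; apply h5; rw [hv]; norm_num
      · exfalso; apply h5; rw [hv]; norm_num
      · left; exact hv
      · right; left; exact hv
    have hN5 : ∃ m, Nat.card N = 5 ^ 1 * m ∧ ¬ 5 ∣ m := by
      rcases hNcard with hc | hc
      · exact ⟨1584, by rw [hc]; norm_num, by norm_num⟩
      · exact ⟨132, by rw [hc]; norm_num, by norm_num⟩
    obtain ⟨m, hm1, hm2⟩ := hN5
    have hL1 := exists_orderOf_of_coprime_action (G := N) (C.subgroupOf N) 5 3
      (by rw [hCcard]; exact h5) (by rw [hCcard]; exact h6.2) 5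
      (fun Q => by
        have := Cfsg.Agent.Lib.Helper4.Sylow.card_sylow_of_card_eq hm1 hm2 Q
        simpa using this)
      (fun R => by
        rcases card_sylow3_of (H := C.subgroupOf N) (by rw [hCcard]; exact hCval') R with hR | hR <;>
          rw [hR] <;> norm_num)
    obtain ⟨g, hg⟩ := hL1
    exact ⟨(g : G), by rw [Subgroup.orderOf_coe]; exact hg⟩

end Cfsg.Agent.Lib.S2490
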