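import Mathlib
import Cfsg.Agent.Lib.Lead.SylSq2

/-!
# S2490, piece C: under (*), a minimal normal subgroup is simple

(author: helper7)  `G` of order `7920`, not simple, such that every nontrivial normal subgroup
has order divisible by `11`.  A minimal normal subgroup `M` is then a proper simple normal
subgroup containing every Sylow `11`-subgroup of `G`, so that `n₁₁ · 11 ∣ |M|`.
-/

set_option autoImplicit false

namespace Cfsg.Agent.Lib.S2490

open Subgroup

/-- the join of two subgroups, one of them normal, has order dividing the product -/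
theorem card_sup_dvd_mul_c {H : Type*} [Group H] [Finite H] (A B : Subgroup H) [B.Normal] :
    Nat.card ↥(A ⊔ B) ∣ Nat.card A * Nat.card B := by
  have h1 : B.relIndex (A ⊔ B) = B.relIndex A := Subgroup.relIndex_sup_right A B
  have h2 : B.relIndex A ∣ Nat.card A := Subgroup.relIndex_dvd_card B A
  have hle : B ≤ A ⊔ B := le_sup_right
  have h3 : Nat.card (B.subgroupOf (A ⊔ B)) * (B.subgroupOf (A ⊔ B)).index =
      Nat.card ↥(A ⊔ B) := Subgroup.card_mul_index _
  have h4 : Nat.card (B.subgroupOf (A ⊔ B)) = Nat.card B :=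
    Nat.card_congr (Subgroup.subgroupOfEquivOfLe hle).toEquiv
  have h5 : (B.subgroupOf (A ⊔ B)).index = B.relIndex A := h1
  rw [← h3, h4, h5, mul_comm]
  exact Nat.mul_dvd_mul h2 dvd_rfl

/-- an element whose order is coprime to the index of a normal subgroup lies in it -/
theorem mem_of_coprime_index_c {G : Type*} [Group G] (M : Subgroup G) [M.Normal] (y : G)
    (h : Nat.Coprime (orderOf y) M.index) : y ∈ M := by
  have h1 : y ^ M.index ∈ M := M.pow_index_mem y
  have key : (1 : ℤ) = (orderOf y : ℤ) * Nat.gcdA (orderOf y) M.index +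
      (M.index : ℤ) * Nat.gcdB (orderOf y) M.index := by
    have h2 := Nat.gcd_eq_gcd_ab (orderOf y) M.index
    rw [h] at h2
    exact_mod_cast h2
  have h3 : y = y ^ (1 : ℤ) := (zpow_one y).symm
  rw [h3, key, zpow_add, zpow_mul, zpow_mul, zpow_natCast, zpow_natCast, pow_orderOf_eq_one,
    one_zpow, one_mul]
  exact M.zpow_mem h1 _

theorem exists_simple_normal_of_star {G : Type*} [Group G] [Finite G] [Fact (Nat.Prime 11)]
    (hord : Nat.card G = 7920) (hns : ¬ IsSimpleGroup G)
    (hstar : ∀ N : Subgroup G, N.Normal → N ≠ ⊥ → 11 ∣ Nat.card N) :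
    ∃ M : Subgroup G, M.Normal ∧ M ≠ ⊤ ∧ IsSimpleGroup ↥M ∧
      Nat.card (Sylow 11 G) * 11 ∣ Nat.card M := by
  classical
  have hnt : Nontrivial G := by
    rw [← Finite.one_lt_card_iff_nontrivial, hord]; norm_num
  -- a proper nontrivial normal subgroup
  obtain ⟨H, hHn, hH1, hH2⟩ : ∃ H : Subgroup G, H.Normal ∧ H ≠ ⊥ ∧ H ≠ ⊤ := by
    by_contra hcon
    push Not at hcon
    apply hns
    exact ⟨fun H hH => by
      by_cases h : H = ⊥
      · left; exact h
      · right; exact hcon H hH h⟩
  -- a minimal normal subgroup below it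
  obtain ⟨M, hMH, hMmin⟩ := Finite.exists_le_minimal
    (p := fun K : Subgroup G => K.Normal ∧ K ≠ ⊥) ⟨hHn, hH1⟩
  have hMn : M.Normal := hMmin.1.1
  have hM1 : M ≠ ⊥ := hMmin.1.2
  have hMtop : M ≠ ⊤ := fun h => hH2 (top_le_iff.mp (h ▸ hMH))
  have hmin : ∀ K : Subgroup G, K.Normal → K ≠ ⊥ → K ≤ M → M ≤ K :=
    fun K h1 h2 h3 => hMmin.2 ⟨h1, h2⟩ h3
  have := hMn
  have h11M : 11 ∣ Nat.card M := hstar M hMn hM1
  have hMdvd : Nat.card M ∣ 7920 := hord ▸ Subgroup.card_subgroup_dvd_card M
  have hp11 : Nat.Prime 11 := Fact.out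
  -- all Sylow 11-subgroups of G lie in M
  have hcop : ¬ 11 ∣ M.index := by
    intro h
    have h1 : Nat.card M * M.index = 7920 := hord ▸ M.card_mul_index
    obtain ⟨a, ha⟩ := h11M
    obtain ⟨b, hb⟩ := h
    have : 121 ∣ 7920 := ⟨a * b, by rw [← h1, ha, hb]; ring⟩
    norm_num at this
  have hSyl : ∀ P : Sylow 11 G, (P : Subgroup G) ≤ M := by
    intro P y hy
    apply mem_of_coprime_index_c
    obtain ⟨k, hk⟩ := P.2 ⟨y, hy⟩
    have hk' : y ^ (11 ^ k) = 1 := by
      have := congrArg Subtype.val hk
      simpa using this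
    have hdvd : orderOf y ∣ 11 ^ k := orderOf_dvd_of_pow_eq_one hk'
    have hc11 : Nat.Coprime 11 M.index := (Nat.Prime.coprime_iff_not_dvd hp11).mpr hcop
    exact Nat.Coprime.coprime_dvd_left hdvd (hc11.pow_left k)
  have hMsimple : IsSimpleGroup ↥M := by
    have : Nontrivial ↥M := (Subgroup.nontrivial_iff_ne_bot M).mpr hM1
    refine ⟨fun T hT => ?_⟩
    by_contra hcon
    push Not at hcon
    obtain ⟨hT1, hT2⟩ := hcon
    have := hT
    by_cases h11T : 11 ∣ Nat.card T
    · -- `T` contains every element of order `11` of `M`, hence its core in `G` is not trivial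
      apply hT2
      have hcopT : ¬ 11 ∣ T.index := by
        intro h
        have h1 : Nat.card T * T.index = Nat.card M := T.card_mul_index
        obtain ⟨a, ha⟩ := h11T
        obtain ⟨b, hb⟩ := h
        have : 121 ∣ 7920 := Dvd.dvd.trans ⟨a * b, by rw [← h1, ha, hb]; ring⟩ hMdvd
        norm_num at this
      have hel : ∀ y : M, orderOf y = 11 → y ∈ T := by
        intro y hy
        apply mem_of_coprime_index_c
        rw [hy]
        exact (Nat.Prime.coprime_iff_not_dvd hp11).mpr hcopT
      obtain ⟨x, hx⟩ := exists_prime_orderOf_dvd_card' 11 h11T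
      have hxG : orderOf (((x : M) : G)) = 11 := by
        rw [Subgroup.orderOf_coe, Subgroup.orderOf_coe, hx]
      have hKM : (T.map M.subtype).normalCore ≤ M :=
        (Subgroup.normalCore_le _).trans (Subgroup.map_subtype_le T)
      have hxK : ((x : M) : G) ∈ (T.map M.subtype).normalCore := by
        intro b
        have hb : b * ((x : M) : G) * b⁻¹ ∈ M := hMn.conj_mem _ (x : M).2 b
        have ho : orderOf (⟨_, hb⟩ : M) = 11 := by
          rw [Subgroup.orderOf_mk, ← MulAut.conj_apply, MulEquiv.orderOf_eq, hxG]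
        exact Subgroup.mem_map.mpr ⟨⟨_, hb⟩, hel _ ho, rfl⟩
      have hK1 : (T.map M.subtype).normalCore ≠ ⊥ := by
        intro h
        rw [h, Subgroup.mem_bot] at hxK
        rw [hxK, orderOf_one] at hxG
        norm_num at hxG
      have hMK : M ≤ (T.map M.subtype).normalCore :=
        hmin _ (Subgroup.normalCore_normal _) hK1 hKM
      rw [eq_top_iff]
      intro y _
      have h1 : (y : G) ∈ T.map M.subtype := (Subgroup.normalCore_le _) (hMK y.2)
      obtain ⟨z, hz, hzy⟩ := Subgroup.mem_map.mp h1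
      have h2 : z = y := Subtype.ext hzy
      exact h2 ▸ hz
    · -- a largest normal `11'`-subgroup of `M` is normal in `G`
      obtain ⟨X, hTX, hXmax⟩ := Finite.exists_le_maximal
        (p := fun A : Subgroup M => A.Normal ∧ ¬ 11 ∣ Nat.card A) ⟨hT, h11T⟩
      have hXn : X.Normal := hXmax.1.1
      have hX11 : ¬ 11 ∣ Nat.card X := hXmax.1.2
      have := hXn
      have hXle : ∀ A : Subgroup M, A.Normal → ¬ 11 ∣ Nat.card A → A ≤ X := by
        intro A hA hA11
        have := hA
        have h1 : (A ⊔ X).Normal := inferInstance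
        have h2 : ¬ 11 ∣ Nat.card ↥(A ⊔ X) := by
          intro h
          have h3 := h.trans (card_sup_dvd_mul_c A X)
          rcases (Nat.Prime.dvd_mul hp11).mp h3 with h | h
          · exact hA11 h
          · exact hX11 h
        have h3 : A ⊔ X ≤ X := hXmax.2 ⟨h1, h2⟩ le_sup_right
        exact le_sup_left.trans h3
      have hXG : (X.map M.subtype).Normal := by
        constructor
        intro n hn g
        obtain ⟨x, hx, rfl⟩ := Subgroup.mem_map.mp hn
        have hA : (X.map (MulAut.conjNormal g : MulAut M).toMonoidHom).Normal :=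
          hXn.map _ (MulEquiv.surjective _)
        have hA11 : ¬ 11 ∣ Nat.card (X.map (MulAut.conjNormal g : MulAut M).toMonoidHom) := by
          rw [Subgroup.card_map_of_injective (MulEquiv.injective _)]; exact hX11
        have hAX := hXle _ hA hA11
        have hmem : (MulAut.conjNormal g : MulAut M) x ∈ X :=
          hAX (Subgroup.mem_map.mpr ⟨x, hx, rfl⟩)
        exact Subgroup.mem_map.mpr ⟨_, hmem, by simp [MulAut.conjNormal_apply]⟩
      have hX1 : X.map M.subtype ≠ ⊥ := by
        intro h
        apply hT1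
        rw [Subgroup.map_eq_bot_iff_of_injective _ M.subtype_injective] at h
        rw [eq_bot_iff, ← h]; exact hTX
      have h4 := hstar _ hXG hX1
      rw [Subgroup.card_map_of_injective M.subtype_injective] at h4
      exact hX11 h4
  refine ⟨M, hMn, hMtop, hMsimple, ?_⟩
  obtain ⟨P⟩ : Nonempty (Sylow 11 G) := inferInstance
  have h1 := Cfsg.Agent.Lib.Lead.SylSq.card_le_mul_card_inf_normalizer P M (hSyl P)
  have h2 : Nat.card {Q : Sylow 11 G // (Q : Subgroup G) ≤ M} = Nat.card (Sylow 11 G) :=
    Nat.card_congr (Equiv.subtypeUnivEquiv hSyl)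
  have h3 : 11 ∣ Nat.card (M ⊓ Subgroup.normalizer ((P : Subgroup G) : Set G) : Subgroup G) := by
    have hP : 11 ∣ Nat.card (P : Subgroup G) :=
      P.dvd_card_of_dvd_card (by rw [hord]; norm_num)
    have hle : (P : Subgroup G) ≤ M ⊓ Subgroup.normalizer ((P : Subgroup G) : Set G) :=
      le_inf (hSyl P) Subgroup.le_normalizer
    exact hP.trans (Subgroup.card_dvd_of_le hle)
  rw [h2] at h1
  rw [← h1]
  exact Nat.mul_dvd_mul_left _ h3

end Cfsg.Agent.Lib.S2490
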