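import Mathlib
import Cfsg.Agent.Lib.Helper5.Ord2.Kit4
import Cfsg.Agent.S0496

/-!
# S2490, piece B: no simple groups of order `495`, `990`, `1584`, `1980`

(author: helper8)
* `495`, `990`: below `1092` (S0496).
* `1584 = 2⁴ · 3² · 11`: `n₁₁ = 12` gives `3 ∣ |C(P₁₁)|` and the fixed-point kill; `n₁₁ = 144` is
  Burnside.
* `1980 = 2² · 3² · 5 · 11`: `n₁₁ = 12` as before; `n₁₁ = 45`: `|N| = 44`, a central involution
  `u` of `N` has `C(u) = N` and exactly one fixed point on `G ⧸ C(u)`: Glauberman's `Z*`.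
-/

set_option autoImplicit false

namespace Cfsg.Agent.Lib.S2490

open MulAction
open Cfsg.Agent.Lib.Helper5.O5040 Cfsg.Agent.Lib.Helper5.OrdKit

theorem small_arith11a (k : ℕ) (h1 : k ∣ 144) (h2 : k % 11 = 1) (h3 : k ≠ 1) :
    k = 12 ∨ k = 144 := by
  have hle : k ≤ 144 := Nat.le_of_dvd (by norm_num) h1
  obtain ⟨j, rfl⟩ : ∃ j, k = 11 * j + 1 := ⟨k / 11, by omega⟩
  have hj : j ≤ 13 := by omega
  interval_cases j <;> first | omega | (exfalso; revert h1; decide)

theorem small_arith11b (k : ℕ) (h1 : k ∣ 180) (h2 : k % 11 = 1) (h3 : k ≠ 1) :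
    k = 12 ∨ k = 45 := by
  have hle : k ≤ 180 := Nat.le_of_dvd (by norm_num) h1
  obtain ⟨j, rfl⟩ : ∃ j, k = 11 * j + 1 := ⟨k / 11, by omega⟩
  have hj : j ≤ 16 := by omega
  interval_cases j <;> first | omega | (exfalso; revert h1; decide)

theorem small_arith45 (j : ℕ) (h1 : j ∣ 45) (h2 : j % 11 = 1) : j = 1 ∨ j = 45 := by
  have hle : j ≤ 45 := Nat.le_of_dvd (by norm_num) h1
  interval_cases j <;> first | omega | (exfalso; revert h1; decide)

section

variable {G : Type*} [Group G] [Finite G] [IsSimpleGroup G]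

theorem small_not_comm_of_not_prime (hnp : ¬ (Nat.card G).Prime) : ¬ IsMulCommutative G := by
  intro h
  let _ : CommGroup G := { (inferInstance : Group G) with mul_comm := h.is_comm.comm }
  exact hnp (IsSimpleGroup.prime_card (α := G))

end

theorem no_simple_495 {G : Type*} [Group G] [Finite G] [IsSimpleGroup G]
    (hn : Nat.card G = 495) : False := by
  have hnc : ¬ IsMulCommutative G := small_not_comm_of_not_prime (by rw [hn]; norm_num)
  have h := Cfsg.Agent.S0496.result hnc (by rw [hn]; norm_num)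
  rw [hn] at h
  omega

theorem no_simple_990 {G : Type*} [Group G] [Finite G] [IsSimpleGroup G]
    (hn : Nat.card G = 990) : False := by
  have hnc : ¬ IsMulCommutative G := small_not_comm_of_not_prime (by rw [hn]; norm_num)
  have h := Cfsg.Agent.S0496.result hnc (by rw [hn]; norm_num)
  rw [hn] at h
  omega

theorem no_simple_1584 {G : Type*} [Group G] [Finite G] [IsSimpleGroup G]
    (hn : Nat.card G = 1584) : False := by
  have hp11 : Fact (Nat.Prime 11) := ⟨by norm_num⟩
  have hp3 : Fact (Nat.Prime 3) := ⟨by norm_num⟩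
  have hlt11 : 11 < Nat.card G := by rw [hn]; norm_num
  obtain ⟨P⟩ : Nonempty (Sylow 11 G) := inferInstance
  have hn11 : Nat.card G = 11 * 144 := by rw [hn]
  have hP := card_sylow_prime 144 hn11 (by norm_num) P
  obtain ⟨k, hk1, hk2, hk3, hk4, hk5⟩ := sylow_count 144 hn11 (by norm_num) (by norm_num) P
  obtain ⟨d, hd, hNC⟩ := card_normalizer_eq_mul P hP
  have hdle : d ≤ 10 := Nat.le_of_dvd (by norm_num) hd
  have h11C := dvd_card_centralizer P hP
  rw [hn] at hk4
  rcases small_arith11a k hk1 hk2 hk3 with rfl | rfl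
  · -- `|N| = 132`
    have hN : Nat.card (Subgroup.normalizer ((P : Subgroup G) : Set G)) = 132 := by omega
    rw [hN] at hNC
    have h3C : 3 ∣ Nat.card (Subgroup.centralizer ((P : Subgroup G) : Set G)) := by
      interval_cases d <;> omega
    obtain ⟨f, hf1, hf2, hf3⟩ := k3 P hP hlt11 3 h3C
    rw [hk5] at hf2 hf3
    omega
  · -- `|N| = 11`
    have hN : Nat.card (Subgroup.normalizer ((P : Subgroup G) : Set G)) = 11 := by omega
    rw [hN] at hNC
    have hd1 : d = 1 := by
      obtain ⟨c, hc⟩ := h11C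
      rw [hc] at hNC
      have : c * d = 1 := by
        have h' : 11 * 1 = 11 * (c * d) := by rw [mul_one, ← mul_assoc]; exact hNC
        exact (Nat.eq_of_mul_eq_mul_left (by norm_num) h').symm
      exact Nat.eq_one_of_mul_eq_one_left this
    rw [hd1, mul_one] at hNC
    exact burnside P hP hlt11 (hN.trans hNC)

theorem no_simple_1980 {G : Type*} [Group G] [Finite G] [IsSimpleGroup G]
    (hn : Nat.card G = 1980) : False := by
  have hp11 : Fact (Nat.Prime 11) := ⟨by norm_num⟩
  have hp3 : Fact (Nat.Prime 3) := ⟨by norm_num⟩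
  have hp2 : Fact (Nat.Prime 2) := ⟨by norm_num⟩
  have h2G : 2 < Nat.card G := by rw [hn]; norm_num
  have hnp : ¬ (Nat.card G).Prime := by rw [hn]; norm_num
  have hlt11 : 11 < Nat.card G := by rw [hn]; norm_num
  obtain ⟨P⟩ : Nonempty (Sylow 11 G) := inferInstance
  have hn11 : Nat.card G = 11 * 180 := by rw [hn]
  have hP := card_sylow_prime 180 hn11 (by norm_num) P
  obtain ⟨k, hk1, hk2, hk3, hk4, hk5⟩ := sylow_count 180 hn11 (by norm_num) (by norm_num) P
  obtain ⟨d, hd, hNC⟩ := card_normalizer_eq_mul P hP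
  have hdle : d ≤ 10 := Nat.le_of_dvd (by norm_num) hd
  rw [hn] at hk4
  rcases small_arith11b k hk1 hk2 hk3 with rfl | rfl
  · -- `|N| = 165`
    have hN : Nat.card (Subgroup.normalizer ((P : Subgroup G) : Set G)) = 165 := by omega
    rw [hN] at hNC
    have h3C : 3 ∣ Nat.card (Subgroup.centralizer ((P : Subgroup G) : Set G)) := by
      interval_cases d <;> omega
    obtain ⟨f, hf1, hf2, hf3⟩ := k3 P hP hlt11 3 h3C
    rw [hk5] at hf2 hf3
    omega
  · -- `|N| = 44`
    have hN : Nat.card (Subgroup.normalizer ((P : Subgroup G) : Set G)) = 44 := by omega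
    rw [hN] at hNC
    have hd12 : d = 1 ∨ d = 2 := by
      interval_cases d <;> omega
    rcases hd12 with rfl | rfl
    · rw [mul_one] at hNC
      exact burnside P hP hlt11 (hN.trans hNC)
    · have h2C : 2 ∣ Nat.card (Subgroup.centralizer ((P : Subgroup G) : Set G)) := by omega
      obtain ⟨u, hu, huC, hNu⟩ := exists_central_involution (by norm_num) 2 P hP
        (by rw [hN]; norm_num) h2C
      have hCu := centralizer_eq_normalizer hnp P hP
        (by rw [hk5]; exact fun j h1 h2 => small_arith45 j h1 h2) u hu hNu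
      obtain ⟨hf1, hf2, hf3, hf4⟩ := fix_central hnp h2G P hP u hu huC hNu
      have hidx : (Subgroup.centralizer ({u} : Set G)).index = 45 := by rw [hCu, hk5]
      have hH : Nat.card (Subgroup.centralizer ({u} : Set G)) = 2 ^ 2 * 11 := by
        rw [hCu, hN]; norm_num
      rw [hidx] at hf2 hf3
      rw [hH] at hf4
      have hfix : Nat.card (fixedBy (G ⧸ Subgroup.centralizer ({u} : Set G)) u) = 1 := by
        omega
      exact false_of_fix_one hnp 2 495 11 (by rw [hn]; norm_num) (by norm_num) u hu hH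
        (by norm_num) hfix

end Cfsg.Agent.Lib.S2490
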