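import Mathlib
import Cfsg.Agent.Lib.Helper7.OrdZ

/-!
# S2490: no simple groups of order `495`, `990`, `1584`

(author: helper7)  Direct applications of the Sylow-counting engine `Ord.kb` (written for S0496).
-/

set_option autoImplicit false
set_option maxRecDepth 100000

namespace Cfsg.Agent.Lib.S2490

open Cfsg.Agent.Lib.Helper7.Ord

theorem no_simple_495_c {G : Type*} [Group G] [Finite G] [IsSimpleGroup G]
    (hn : Nat.card G = 495) : False :=
  kb 11 1 45 (by norm_num) (by rw [hn]; norm_num) (by norm_num) (by norm_num) (by norm_num)
    (by decide)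

theorem no_simple_990_c {G : Type*} [Group G] [Finite G] [IsSimpleGroup G]
    (hn : Nat.card G = 990) : False :=
  kb 2 1 495 (by norm_num) (by rw [hn]; norm_num) (by norm_num) (by norm_num) (by norm_num)
    (by decide)

theorem no_simple_1584_c {G : Type*} [Group G] [Finite G] [IsSimpleGroup G]
    (hn : Nat.card G = 1584) : False :=
  kb 11 1 144 (by norm_num) (by rw [hn]; norm_num) (by norm_num) (by norm_num) (by norm_num)
    (by decide)

end Cfsg.Agent.Lib.S2490
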